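import Cfsg.Agent.Lib.SpFourEven.Cit.PSLTwo.Inv

/-!
# A root subgroup fixing only a point

The root subgroup then consists of the elements fixing a flag, given by a map `v` into a plane and a
map `z` into the field; compatibility with inversion makes `z` the value at `v` of a quadratic form
on that plane, so the group fixes a quadratic form on the whole space.
-/

set_option autoImplicit false
set_option linter.unusedSectionVars false

namespace Cfsg.Agent.SpFourEven.PSLTwo

open Matrix Cfsg.Agent.Aschbacher Cfsg.Agent.Forms.SympStd Cfsg.Agent.Forms.Max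
open Module (End finrank)

variable {F : Type*} [Field F] [Fintype F] [CharP F 2]
variable {P : Subgroup (GL (Fin 2 ⊕ Fin 2) F)} {K : Type} [Field K] [CharP K 2]

local notation "Vec" => (Fin 2 ⊕ Fin 2 → F)
local notation "B" => sympB 2 F

/-- Four vectors in hyperbolic position span the space. -/
theorem expand {e f v p : Vec} (hef : B e f = 1) (hvp : B v p = 1) (hev : B e v = 0) (hep : B e p = 0)
    (hfv : B f v = 0) (hfp : B f p = 0) (x : Vec) :
    x = B x f • e + B x e • f + B x p • v + B x v • p := by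
  let T : Vec →ₗ[F] (Fin 4 → F) := LinearMap.pi ![(B).flip e, (B).flip f, (B).flip v, (B).flip p]
  have hT : ∀ y, T y = ![B y e, B y f, B y v, B y p] := by
    intro y
    ext i
    fin_cases i <;> rfl
  have hBe : B f e = 1 := by rw [B_swap, hef]
  have hpv : B p v = 1 := by rw [B_swap, hvp]
  have hval : ∀ a b c d : F, T (b • e + a • f + d • v + c • p) = ![a, b, c, d] := by
    intro a b c d
    rw [hT]
    ext i
    fin_cases i <;>
      simp [B_self, hef, hBe, hvp, hpv, hev, hep, hfv, hfp, B_swap e v, B_swap e p, B_swap f v,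
        B_swap f p]
  have hinj : Function.Injective T := by
    refine (LinearMap.injective_iff_surjective_of_finrank_eq_finrank (by simp)).2 fun q => ?_
    refine ⟨q 1 • e + q 0 • f + q 3 • v + q 2 • p, ?_⟩
    rw [hval]
    ext i
    fin_cases i <;> rfl
  exact hinj (by rw [hT x, hval])

/-- A point fixed by the root subgroup, with the action on its orthogonal space. -/
theorem exists_point (hC : Core P) (ht : ¬ HasTrv P) (D : Gens P K) {r₀ : K} (hr₀ : r₀ ≠ 0)
    (hne : LinearMap.ker (nil (D.u r₀)) ≠ LinearMap.ker (nil (D.u 1))) :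
    ∃ e₀ : Vec, e₀ ≠ 0 ∧ (∀ t, nil (D.u t) e₀ = 0) ∧
      ∀ t x, B x e₀ = 0 → ∃ c : F, c • e₀ = nil (D.u t) x := by
  have hu0 : D.u 0 = 1 := by
    have h := D.u_add 0 0
    rw [add_zero, D.u_sq] at h
    exact h
  have hN0 : ∀ x : Vec, nil (D.u 0) x = 0 := fun x => by rw [hu0, nil_eq_zero_iff, lin_one]
  have hNc : ∀ (s r : K) (x : Vec), nil (D.u s) (nil (D.u r) x) = nil (D.u r) (nil (D.u s) x) := by
    intro s r x
    have h := congrArg (fun g => nil g x) (D.u_comm s r)
    rw [nil_mul, nil_mul, add_comm (nil (D.u s) x)] at h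
    exact add_left_cancel h
  have hNsq : ∀ (s : K) (x : Vec), nil (D.u s) (nil (D.u s) x) = 0 := fun s x => nil_sq hC (D.u_sq s) x
  have hBN : ∀ (s : K) (x y : Vec), B (nil (D.u s) x) y = B x (nil (D.u s) y) := fun s x y =>
    B_nil hC (D.u_mem s) (D.u_sq s) x y
  have hrank : ∀ s : K, s ≠ 0 → finrank F (LinearMap.ker (nil (D.u s))) = 2 ∧
      LinearMap.ker (nil (D.u s)) = LinearMap.range (nil (D.u s)) := fun s hs => by
    obtain ⟨h1, h2⟩ := rank_two hC ht (D.u_mem s) (D.u_sq s) (D.u_ne s hs)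
    exact ⟨by rw [h2, h1], h2⟩
  have hmeet : ∀ s r : K, s ≠ 0 → r ≠ 0 →
      LinearMap.ker (nil (D.u s)) ≠ LinearMap.ker (nil (D.u r)) → ∀ {a b : Vec}, a ≠ 0 →
      nil (D.u s) a = 0 → nil (D.u r) a = 0 → nil (D.u s) b = 0 → nil (D.u r) b = 0 →
      ∃ c : F, c • a = b := by
    intro s r hs hr hsr a b ha has har hbs hbr
    set M := LinearMap.ker (nil (D.u s)) ⊓ LinearMap.ker (nil (D.u r)) with hM
    have haM : a ∈ M := ⟨has, har⟩
    have h1 : finrank F M = 1 := by
      have hpos : finrank F M ≠ 0 := fun h => ha (by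
        have := Submodule.finrank_eq_zero.1 h
        rw [this] at haM
        exact haM)
      have hle : finrank F M ≤ 2 :=
        le_of_le_of_eq (Submodule.finrank_mono (inf_le_left : M ≤ _)) (hrank s hs).1
      have hne2 : finrank F M ≠ 2 := fun h => hsr (by
        have e1 : M = LinearMap.ker (nil (D.u s)) :=
          Submodule.eq_of_le_of_finrank_le inf_le_left (by rw [h, (hrank s hs).1])
        have e2 : M = LinearMap.ker (nil (D.u r)) :=
          Submodule.eq_of_le_of_finrank_le inf_le_right (by rw [h, (hrank r hr).1])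
        rw [← e1, e2])
      omega
    have hspan : Submodule.span F {a} = M := Submodule.eq_of_le_of_finrank_le
      ((Submodule.span_singleton_le_iff_mem _ _).2 haM) (by rw [h1, finrank_span_singleton ha])
    have hbM : b ∈ Submodule.span F {a} := hspan.symm ▸ (⟨hbs, hbr⟩ : b ∈ M)
    exact Submodule.mem_span_singleton.1 hbM
  obtain ⟨e₀, he₀, he₀1, he₀r⟩ : ∃ e₀ : Vec, e₀ ≠ 0 ∧ nil (D.u 1) e₀ = 0 ∧
      nil (D.u r₀) e₀ = 0 := by
    by_contra! hcon
    refine hne ?_
    symm
    refine Submodule.eq_of_le_of_finrank_le (fun x hx => ?_)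
      (by rw [(hrank 1 one_ne_zero).1, (hrank r₀ hr₀).1])
    rw [LinearMap.mem_ker] at hx ⊢
    by_contra hx'
    exact hcon _ hx' (by rw [hNc, hx, map_zero]) (hNsq r₀ x)
  have he₀all : ∀ t, nil (D.u t) e₀ = 0 := by
    intro t
    obtain ⟨c, hc⟩ := hmeet r₀ 1 hr₀ one_ne_zero hne he₀ he₀r he₀1
      (b := nil (D.u t) e₀) (by rw [hNc, he₀r, map_zero]) (by rw [hNc, he₀1, map_zero])
    have h := hNsq t e₀
    rw [← hc, map_smul, ← hc, smul_smul, smul_eq_zero] at h
    rcases h with h | h
    · rw [← hc, mul_self_eq_zero.1 h, zero_smul]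
    · exact absurd h he₀
  have hperp₀ : ∀ t x, B x e₀ = 0 → ∃ c : F, c • e₀ = nil (D.u t) x := by
    intro t x hx
    by_cases ht0 : t = 0
    · exact ⟨0, by rw [ht0, hN0, zero_smul]⟩
    obtain ⟨q, hq, hqne⟩ : ∃ q, q ≠ 0 ∧
        LinearMap.ker (nil (D.u t)) ≠ LinearMap.ker (nil (D.u q)) := by
      by_cases h : LinearMap.ker (nil (D.u t)) = LinearMap.ker (nil (D.u 1))
      · exact ⟨r₀, hr₀, fun e => hne (e.symm.trans h)⟩
      · exact ⟨1, one_ne_zero, h⟩
    refine hmeet t q ht0 hq hqne he₀ (he₀all t) (he₀all q) (hNsq t x) ?_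
    refine eq_zero_of_B fun g => ?_
    rw [hBN, hBN]
    obtain ⟨c, hc⟩ := hmeet t q ht0 hq hqne he₀ (he₀all t) (he₀all q) (b := nil (D.u t) (nil (D.u q) g))
      (hNsq t _) (by rw [hNc t q g, hNsq])
    rw [← hc, map_smul, hx, smul_zero]
  exact ⟨e₀, he₀, he₀all, hperp₀⟩

/-- The root subgroup fixes the flag `e < e^⊥`: the maps `v` and `z`. -/
structure Flag (D : Gens P K) where
  e : Fin 2 ⊕ Fin 2 → F
  f : Fin 2 ⊕ Fin 2 → F
  v : K → Fin 2 ⊕ Fin 2 → F
  z : K → F
  hf : f = lin D.w e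
  hef : sympB 2 F e f = 1
  hve : ∀ s, sympB 2 F (v s) e = 0
  hvf : ∀ s, sympB 2 F (v s) f = 0
  hN : ∀ s x, nil (D.u s) x = sympB 2 F x e • (v s + z s • e) + sympB 2 F x (v s) • e
  hzne : ∀ s, s ≠ 0 → z s ≠ 0
  hvne : ∀ s, s ≠ 0 → v s ≠ 0
  hvadd : ∀ s r, v (s + r) = v s + v r ∧ z (s + r) = z s + z r + sympB 2 F (v r) (v s)

/-- The flag of a fixed point. -/
theorem exists_flag (hC : Core P) (ht : ¬ HasTrv P) (hs : ¬ HasShort P) (D : Gens P K) {r₀ : K}
    (hr₀ : r₀ ≠ 0) (hne : LinearMap.ker (nil (D.u r₀)) ≠ LinearMap.ker (nil (D.u 1))) :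
    Nonempty (Flag D) := by
  obtain ⟨e₀, he₀, he₀all, hperp₀⟩ := exists_point hC ht D hr₀ hne
  have hBN : ∀ (s : K) (x y : Vec), B (nil (D.u s) x) y = B x (nil (D.u s) y) := fun s x y =>
    B_nil hC (D.u_mem s) (D.u_sq s) x y
  have hrank : ∀ s : K, s ≠ 0 → finrank F (LinearMap.ker (nil (D.u s))) = 2 ∧
      LinearMap.ker (nil (D.u s)) = LinearMap.range (nil (D.u s)) := fun s hs => by
    obtain ⟨h1, h2⟩ := rank_two hC ht (D.u_mem s) (D.u_sq s) (D.u_ne s hs)
    exact ⟨by rw [h2, h1], h2⟩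
  -- normalisation
  have hwB : ∀ x y : Vec, B (lin D.w x) (lin D.w y) = B x y := B_lin hC D.w_mem
  have hww : ∀ x : Vec, lin D.w (lin D.w x) = x := fun x => by rw [← lin_mul, D.w_sq, lin_one]
  have hβ : B e₀ (lin D.w e₀) ≠ 0 := by
    intro h0
    have hsub : ∀ y ∈ Submodule.span F ({e₀, lin D.w e₀} : Set Vec), ∀ s,
        nil (D.u s) y ∈ Submodule.span F ({e₀, lin D.w e₀} : Set Vec) := by
      intro y hy s
      obtain ⟨a, b, rfl⟩ := Submodule.mem_span_pair.1 hy
      obtain ⟨c, hc⟩ := hperp₀ s (lin D.w e₀) (by rw [B_swap]; exact h0)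
      rw [map_add, map_smul, map_smul, he₀all, ← hc, smul_zero, zero_add, smul_smul]
      exact Submodule.smul_mem _ _ (Submodule.subset_span (by simp))
    have hw' : ∀ y ∈ Submodule.span F ({e₀, lin D.w e₀} : Set Vec),
        lin D.w y ∈ Submodule.span F ({e₀, lin D.w e₀} : Set Vec) := by
      intro y hy
      obtain ⟨a, b, rfl⟩ := Submodule.mem_span_pair.1 hy
      rw [map_add, map_smul, map_smul, hww]
      exact Submodule.mem_span_pair.2 ⟨b, a, add_comm _ _⟩
    rcases D.eq_bot_or_top hC _ (fun s y hy => hsub y hy s) hw' with h | h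
    · have : e₀ ∈ Submodule.span F ({e₀, lin D.w e₀} : Set Vec) := Submodule.subset_span (by simp)
      rw [h] at this
      exact he₀ this
    · classical
      have h2 : finrank F (Submodule.span F ({e₀, lin D.w e₀} : Set Vec)) ≤ 2 := by
        refine (finrank_span_le_card _).trans ?_
        simp only [Set.toFinset_insert, Set.toFinset_singleton]
        exact Finset.card_le_two
      rw [h, finrank_top] at h2
      simp at h2
  obtain ⟨c, hc⟩ : IsSquare (B e₀ (lin D.w e₀))⁻¹ :=
    FiniteField.isSquare_of_char_two (ringChar.eq F 2) _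
  have hc0 : c ≠ 0 := by
    rintro rfl
    rw [zero_mul, inv_eq_zero] at hc
    exact hβ hc
  set e := c • e₀ with he
  set f := lin D.w e with hf
  have hef : B e f = 1 := by
    rw [hf, he, map_smul, map_smul, map_smul, LinearMap.smul_apply, smul_eq_mul, smul_eq_mul,
      ← mul_assoc, ← hc, inv_mul_cancel₀ hβ]
  have hfe : B f e = 1 := by rw [B_swap, hef]
  have hwf : lin D.w f = e := by rw [hf, hww]
  have heall : ∀ t, nil (D.u t) e = 0 := fun t => by rw [he, map_smul, he₀all, smul_zero]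
  have hperp : ∀ t x, B x e = 0 → ∃ k : F, k • e = nil (D.u t) x := by
    intro t x hx
    rw [he, map_smul, smul_eq_mul, mul_eq_zero] at hx
    obtain ⟨k, hk⟩ := hperp₀ t x (hx.resolve_left hc0)
    exact ⟨k * c⁻¹, by rw [he, smul_smul, mul_assoc, inv_mul_cancel₀ hc0, mul_one, hk]⟩
  obtain ⟨z, hzdef⟩ : ∃ z : K → F, ∀ s, z s = B (nil (D.u s) f) f := ⟨_, fun _ => rfl⟩
  obtain ⟨v, hvdef⟩ : ∃ v : K → Vec, ∀ s, v s = nil (D.u s) f + z s • e := ⟨_, fun _ => rfl⟩
  have hve : ∀ s, B (v s) e = 0 := fun s => by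
    simp [hvdef, hBN, heall, B_self]
  have hvf : ∀ s, B (v s) f = 0 := fun s => by
    rw [hvdef, map_add, LinearMap.add_apply, ← hzdef, map_smul, LinearMap.smul_apply, hef,
      smul_eq_mul, mul_one, CharTwo.add_self_eq_zero]
  have hev : ∀ s, B e (v s) = 0 := fun s => by rw [B_swap, hve]
  have hfv : ∀ s, B f (v s) = 0 := fun s => by rw [B_swap, hvf]
  have hNf : ∀ s, nil (D.u s) f = v s + z s • e := fun s => by
    rw [hvdef, add_assoc, add_self, add_zero]
  have hN : ∀ s x, nil (D.u s) x = B x e • (v s + z s • e) + B x (v s) • e := by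
    intro s x
    obtain ⟨k, hk⟩ := hperp s (x + B x e • f) (by
      simp [hfe, CharTwo.add_self_eq_zero])
    have hk' : k = B x (v s) := by
      have h := congrArg (fun y => B y f) hk
      simp only [map_smul, LinearMap.smul_apply, hef, smul_eq_mul, mul_one] at h
      rw [h, hBN, hNf]
      simp only [map_add, map_smul, LinearMap.add_apply, LinearMap.smul_apply, hfe, hfv, smul_eq_mul]
      linear_combination (z s * B x e) * (CharTwo.two_eq_zero (R := F))
    rw [map_add, map_smul, hNf] at hk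
    rw [← hk', hk, add_comm (nil (D.u s) x), ← add_assoc, add_self, zero_add]
  have hzne : ∀ s, s ≠ 0 → z s ≠ 0 := by
    intro s hs0 hz
    refine hs ⟨D.u s, D.u_mem s, D.u_sq s, D.u_ne s hs0, fun x => ?_⟩
    rw [← lin_apply, lin_eq_add, hN, hz, zero_smul, add_zero]
    simp only [map_add, map_smul, B_self, smul_eq_mul, zero_add]
    linear_combination (B x e * B x (v s)) * (CharTwo.two_eq_zero (R := F))
  have hvne : ∀ s, s ≠ 0 → v s ≠ 0 := by
    intro s hs0 hv
    have hle : LinearMap.range (nil (D.u s)) ≤ Submodule.span F {e} := by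
      rintro _ ⟨x, rfl⟩
      rw [hN, hv, zero_add, smul_smul]
      exact Submodule.add_mem _ (Submodule.smul_mem _ _ (Submodule.mem_span_singleton_self e))
        (Submodule.smul_mem _ _ (Submodule.mem_span_singleton_self e))
    have h := Submodule.finrank_mono hle
    have he0 : e ≠ 0 := by rw [he]; exact smul_ne_zero hc0 he₀
    rw [← (hrank s hs0).2, (hrank s hs0).1, finrank_span_singleton he0] at h
    omega
  have hvadd : ∀ s r, v (s + r) = v s + v r ∧ z (s + r) = z s + z r + B (v r) (v s) := by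
    intro s r
    have h : nil (D.u (s + r)) f = v s + v r + (z s + z r + B (v r) (v s)) • e := by
      rw [D.u_add, nil_mul, hN s (nil (D.u r) f), hNf, hNf]
      simp only [map_add, map_smul, LinearMap.add_apply, LinearMap.smul_apply, hve, B_self, hev,
        smul_eq_mul, mul_zero, add_zero, zero_smul, zero_add, add_smul]
      abel
    have hz' : z (s + r) = z s + z r + B (v r) (v s) := by
      rw [hzdef (s + r), h]
      simp [hvf, hef]
    refine ⟨?_, hz'⟩
    rw [hvdef (s + r), h, hz', add_assoc, add_self, add_zero]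
  exact ⟨⟨e, f, v, z, rfl, hef, hve, hvf, hN, hzne, hvne, hvadd⟩⟩

set_option maxHeartbeats 800000 in
/-- Compatibility with inversion. -/
theorem Flag.key (hC : Core P) {D : Gens P K} (Fl : Flag D) : ∀ s, s ≠ 0 →
    lin D.w (Fl.v s⁻¹) = (Fl.z s)⁻¹ • Fl.v s ∧ Fl.z s⁻¹ = (Fl.z s)⁻¹ := by
  obtain ⟨e, f, v, z, hf, hef, hve, hvf, hN, hzne, hvne, hvadd⟩ := Fl
  have hfe : B f e = 1 := by rw [B_swap, hef]
  have hev : ∀ s, B e (v s) = 0 := fun s => by rw [B_swap, hve]
  have hfv : ∀ s, B f (v s) = 0 := fun s => by rw [B_swap, hvf]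
  have hwB : ∀ x y : Vec, B (lin D.w x) (lin D.w y) = B x y := B_lin hC D.w_mem
  have hww : ∀ x : Vec, lin D.w (lin D.w x) = x := fun x => by rw [← lin_mul, D.w_sq, lin_one]
  have hwf : lin D.w f = e := by rw [hf, hww]
  have heall : ∀ t, nil (D.u t) e = 0 := fun t => by rw [hN, B_self, hev]; simp
  have hNsq : ∀ (s : K) (x : Vec), nil (D.u s) (nil (D.u s) x) = 0 := fun s x => nil_sq hC (D.u_sq s) x
  have hBwe : ∀ x, B (lin D.w x) e = B x f := fun x => by rw [← hwB, hww, ← hf]
  have hM : ∀ s x, nil (D.w * D.u s * D.w) x =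
      B x f • (lin D.w (v s) + z s • f) + B x (lin D.w (v s)) • f := by
    intro s x
    have h : nil (D.w * D.u s * D.w) x = lin D.w (nil (D.u s) (lin D.w x)) := by
      rw [nil_apply, lin_mul, lin_mul, lin_eq_add (D.u s) (lin D.w x), map_add, hww, add_comm x,
        add_assoc, add_self, add_zero]
    rw [h, hN, hBwe, map_add, map_smul, map_smul, map_add, map_smul, ← hf,
      show B (lin D.w x) (v s) = B x (lin D.w (v s)) by rw [← hwB, hww]]
  -- the braid relation
  intro s hs0
  show lin D.w (v s⁻¹) = (z s)⁻¹ • v s ∧ z s⁻¹ = (z s)⁻¹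
  have hbr : ∀ x, nil (D.w * D.u s⁻¹ * D.w) x +
      nil (D.u s) (nil (D.w * D.u s⁻¹ * D.w) (nil (D.u s) x)) = nil (D.u s) x +
      nil (D.w * D.u s⁻¹ * D.w) (nil (D.u s) (nil (D.w * D.u s⁻¹ * D.w) x)) := by
    intro x
    have hM2 : ∀ y, nil (D.w * D.u s⁻¹ * D.w) (nil (D.w * D.u s⁻¹ * D.w) y) = 0 := fun y => by
      refine nil_sq hC ?_ y
      rw [show D.w * D.u s⁻¹ * D.w * (D.w * D.u s⁻¹ * D.w) =
        D.w * D.u s⁻¹ * (D.w * D.w) * D.u s⁻¹ * D.w by group, D.w_sq, mul_one,
        mul_assoc D.w, D.u_sq, mul_one, D.w_sq]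
    have h := congrArg (fun g => nil g x) (D.braid s hs0)
    generalize D.w * D.u s⁻¹ * D.w = m at hM2 h ⊢
    simp only [nil_mul, map_add, hNsq, hM2, map_zero] at h
    ext j
    have h' := congrFun h j
    simp only [Pi.add_apply, Pi.zero_apply, map_add, map_zero] at h' ⊢
    linear_combination h' + ((nil m x) j - (nil (D.u s) x) j) * (CharTwo.two_eq_zero (R := F))
  have hwe : B (lin D.w (v s⁻¹)) e = 0 := by rw [hBwe, hvf]
  have hwf' : B (lin D.w (v s⁻¹)) f = 0 := by rw [hf, hwB, hve]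
  have hew : B e (lin D.w (v s⁻¹)) = 0 := by rw [B_swap, hwe]
  have hfw : B f (lin D.w (v s⁻¹)) = 0 := by rw [B_swap, hwf']
  set a := lin D.w (v s⁻¹) with ha
  set z' := z s⁻¹ with hz'
  have ha0 : a ≠ 0 := fun h => hvne _ (inv_ne_zero hs0) (by
    have := congrArg (lin D.w) h
    rwa [hww, map_zero] at this)
  have hz'0 : z' ≠ 0 := hzne _ (inv_ne_zero hs0)
  -- at `e`
  have h1 := hbr e
  rw [heall, map_zero, map_zero, add_zero, zero_add] at h1
  simp only [hN, hM, ← ha, ← hz', hef, hfe, hev, hve, hvf, hfv, hwe, hwf', hew, hfw, B_self,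
    map_add, map_smul, LinearMap.add_apply, LinearMap.smul_apply, one_smul, zero_smul, add_zero,
    zero_add, smul_add, smul_smul, smul_eq_mul, mul_zero, mul_one] at h1
  have hA := congrArg (fun y => B y (e : Vec)) h1
  simp only [map_add, map_smul, LinearMap.add_apply, LinearMap.smul_apply, hwe, hve, hfe, B_self,
    smul_eq_mul, mul_zero, mul_one, zero_add, add_zero] at hA
  have hB' : B a (v s) = 0 ∧ z' * z s = 1 := by
    by_cases hk : B a (v s) + z' * z s = 1
    · have hB0 : B a (v s) = 0 := by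
        have hsw : B (v s) a = B a (v s) := B_swap a (v s)
        rw [hsw] at hA
        have : z' * B a (v s) = 0 := by
          linear_combination z' * hk - hA +
            (z' - z' * B a (v s) - z' * z' * z s) * (CharTwo.two_eq_zero (R := F))
        exact (mul_eq_zero.1 this).resolve_left hz'0
      exact ⟨hB0, by rwa [hB0, zero_add] at hk⟩
    · exfalso
      obtain ⟨y, hy⟩ : ∃ y, B a y ≠ 0 := by
        by_contra! hcon
        exact ha0 (eq_zero_of_B hcon)
      set y' := y + B y f • e + B y e • f with hy'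
      have hye : B y' e = 0 := by
        rw [hy']
        simp [B_self, hfe, CharTwo.add_self_eq_zero]
      have hyf : B y' f = 0 := by
        rw [hy']
        simp [B_self, hef, CharTwo.add_self_eq_zero]
      have hay : B a y' = B a y := by
        rw [hy']
        simp [hwe, hwf']
      have hB := congrArg (fun q => B q y') h1
      have hey : B e y' = 0 := by rw [B_swap, hye]
      have hfy : B f y' = 0 := by rw [B_swap, hyf]
      simp only [map_add, map_smul, LinearMap.add_apply, LinearMap.smul_apply, hey, hfy,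
        smul_eq_mul, mul_zero, add_zero] at hB
      apply hk
      have : (B a (v s) + z' * z s + 1) * B a y' = 0 := by
        linear_combination (B a y') * (CharTwo.two_eq_zero (R := F)) - hB
      rcases mul_eq_zero.1 this with h | h
      · exact CharTwo.add_eq_zero.1 h
      · exact absurd (hay ▸ h) hy
  obtain ⟨hBav, hzz⟩ := hB'
  have hBva : B (v s) a = 0 := by rw [B_swap, hBav]
  -- off `e` and `f`
  obtain ⟨g, hg⟩ : ∃ g, B g (v s) = 1 := by
    obtain ⟨g, hg⟩ : ∃ g, B (v s) g ≠ 0 := by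
      by_contra! hcon
      exact hvne s hs0 (eq_zero_of_B hcon)
    exact ⟨(B (v s) g)⁻¹ • g, by
      rw [B_swap, map_smul, smul_eq_mul, inv_mul_cancel₀ hg]⟩
  set y := g + B g f • e + B g e • f with hy
  have hye : B y e = 0 := by rw [hy]; simp [B_self, hfe, CharTwo.add_self_eq_zero]
  have hyf : B y f = 0 := by rw [hy]; simp [B_self, hef, CharTwo.add_self_eq_zero]
  have hyv : B y (v s) = 1 := by rw [hy]; simp [hev, hfv, hg]
  have h2 := hbr y
  simp only [hN, hM, ← ha, ← hz', hye, hyf, hyv, hef, hfe, hev, hve, hvf, hfv, hwe, hwf', hew,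
    hfw, hBav, hBva, B_self, map_add, map_smul, LinearMap.add_apply, LinearMap.smul_apply,
    one_smul, zero_smul, add_zero, zero_add, smul_add, smul_smul, smul_eq_mul, mul_zero,
    mul_one] at h2
  have h3 : z' • v s = (B y a * z s) • a := by
    ext j
    have h' := congrFun h2 j
    simp only [Pi.add_apply, Pi.smul_apply, smul_eq_mul] at h' ⊢
    linear_combination h' + (B y a * f j) * hzz - (e j) * hzz
  have hk : B y a * z s = 1 := by
    have h := congrArg (fun q => B y q) h3
    simp only [map_smul, smul_eq_mul, hyv, mul_one] at h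
    have h4 : (B y a * z s + 1) ^ 2 = 0 := by
      linear_combination (- z s) * h + hzz + (B y a * z s + 1) * (CharTwo.two_eq_zero (R := F))
    exact CharTwo.add_eq_zero.1 (pow_eq_zero_iff two_ne_zero |>.1 h4)
  rw [hk, one_smul] at h3
  have hzinv : z' = (z s)⁻¹ := eq_inv_of_mul_eq_one_left hzz
  exact ⟨by rw [← h3, hzinv], hzinv⟩


/-- The values at squares. -/
theorem Flag.square (hC : Core P) {D : Gens P K} (Fl : Flag D) :
    Fl.z 1 = 1 ∧ lin D.w (Fl.v 1) = Fl.v 1 ∧ Fl.v 0 = 0 ∧
      (∀ s, Fl.v (s * s) = sympB 2 F (Fl.v s) (Fl.v 1) • Fl.v s + Fl.z s • Fl.v 1 ∧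
        Fl.z (s * s) = Fl.z s * Fl.z s) ∧
      ∀ s r, sympB 2 F (Fl.v (r * r)) (Fl.v (s * s)) =
        sympB 2 F (Fl.v r) (Fl.v s) * sympB 2 F (Fl.v r) (Fl.v s) := by
  have hkey' := Fl.key hC
  obtain ⟨e, f, v, z, hf, hef, hve, hvf, hN, hzne, hvne, hvadd⟩ := Fl
  have hfe : B f e = 1 := by rw [B_swap, hef]
  have hev : ∀ s, B e (v s) = 0 := fun s => by rw [B_swap, hve]
  have hfv : ∀ s, B f (v s) = 0 := fun s => by rw [B_swap, hvf]
  have hwB : ∀ x y : Vec, B (lin D.w x) (lin D.w y) = B x y := B_lin hC D.w_mem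
  have hww : ∀ x : Vec, lin D.w (lin D.w x) = x := fun x => by rw [← lin_mul, D.w_sq, lin_one]
  have hwf : lin D.w f = e := by rw [hf, hww]
  replace hkey' : ∀ s, s ≠ 0 → lin D.w (v s⁻¹) = (z s)⁻¹ • v s ∧ z s⁻¹ = (z s)⁻¹ := hkey'
  have hkey := hkey'
  have hv0 : v 0 = 0 := by
    have h := (hvadd 0 0).1
    rwa [add_zero, add_self] at h
  have hz0 : z 0 = 0 := by
    have h := (hvadd 0 0).2
    rw [add_zero, hv0, map_zero, add_zero, CharTwo.add_self_eq_zero] at h
    exact h
  have hz1 : z 1 = 1 := by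
    have h := (hkey 1 one_ne_zero).2
    rw [inv_one] at h
    have h0 := hzne 1 one_ne_zero
    have h2 : (z 1 + 1) ^ 2 = 0 := by
      have h' : z 1 * z 1 = 1 := by nth_rewrite 1 [h]; exact inv_mul_cancel₀ h0
      linear_combination h' + (z 1 + 1) * (CharTwo.two_eq_zero (R := F))
    exact CharTwo.add_eq_zero.1 (pow_eq_zero_iff two_ne_zero |>.1 h2)
  have hwv0 : lin D.w (v 1) = v 1 := by
    have h := (hkey 1 one_ne_zero).1
    rwa [inv_one, hz1, inv_one, one_smul] at h
  have hsq : ∀ s, v (s * s) = B (v s) (v 1) • v s + z s • v 1 ∧ z (s * s) = z s * z s := by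
    intro s
    by_cases hs0 : s = 0
    · rw [hs0, zero_mul, hv0, hz0]
      simp
    by_cases hs1 : s + 1 = 0
    · rw [CharTwo.add_eq_zero.1 hs1, one_mul, hz1, B_self]
      simp
    have hA : s * s + s ≠ 0 := by rw [← mul_add_one]; exact mul_ne_zero hs0 hs1
    have hsum : s⁻¹ + (s + 1)⁻¹ = (s * s + s)⁻¹ := by
      rw [inv_add_inv hs0 hs1, ← add_assoc, CharTwo.add_self_eq_zero, zero_add, one_div, mul_add_one]
    obtain ⟨ha, hb⟩ := hkey s hs0
    obtain ⟨hc', hd⟩ := hkey (s + 1) hs1
    obtain ⟨hA1, hA2⟩ := hkey (s * s + s) hA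
    rw [← hsum, (hvadd _ _).1, map_add, ha, hc'] at hA1
    rw [← hsum, (hvadd _ _).2, hb, hd, ← hwB, ha, hc', (hvadd s 1).1, (hvadd s 1).2, hz1] at hA2
    rw [(hvadd s 1).1, (hvadd s 1).2, hz1, B_swap (v s) (v 1)] at hA1
    have hz := hzne s hs0
    have hz1' := hzne (s + 1) hs1
    rw [(hvadd s 1).2, hz1, B_swap (v s) (v 1)] at hz1'
    simp only [map_add, map_smul, LinearMap.add_apply, LinearMap.smul_apply, B_self, smul_eq_mul,
      zero_add, B_swap (v s) (v 1)] at hA2
    set b := B (v s) (v 1) with hb'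
    set zt := z s + 1 + b with hzt
    have hX := hzne _ hA
    have hX' : z (s * s + s) = z s * zt := by
      have hone : (z (s * s + s))⁻¹ * (z s * zt) = 1 := by
        rw [← hA2]
        field_simp
        linear_combination (z s + b) * (CharTwo.two_eq_zero (R := F))
      exact ((inv_mul_eq_one₀ hX).1 hone)
    have hV : v (s * s + s) = zt • v s + z s • (v s + v 1) := by
      rw [hX', eq_inv_smul_iff₀ (mul_ne_zero hz hz1')] at hA1
      rw [← hA1, smul_add, smul_smul, smul_smul]
      congr 2 <;> field_simp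
    obtain ⟨hsv, hsz⟩ := hvadd (s * s) s
    have hv2 : v (s * s) = b • v s + z s • v 1 := by
      ext j
      have h1 := congrFun (hsv.symm.trans hV) j
      simp only [Pi.add_apply, Pi.smul_apply, smul_eq_mul] at h1 ⊢
      linear_combination h1 + (z s * v s j) * (CharTwo.two_eq_zero (R := F))
    refine ⟨hv2, ?_⟩
    rw [hX', hv2] at hsz
    simp only [map_add, map_smul, B_self, smul_eq_mul, mul_zero, zero_add, ← hb'] at hsz
    linear_combination -hsz
  have hid : ∀ s r, B (v (r * r)) (v (s * s)) = B (v r) (v s) * B (v r) (v s) := by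
    intro s r
    have h := (hsq (s + r)).2
    rw [show (s + r) * (s + r) = s * s + r * r by
      rw [← pow_two, CharTwo.add_sq, pow_two, pow_two], (hvadd (s * s) (r * r)).2, (hvadd s r).2,
      (hsq s).2, (hsq r).2] at h
    linear_combination h + (z s * z r + z s * B (v r) (v s) + z r * B (v r) (v s)) *
      (CharTwo.two_eq_zero (R := F))
  exact ⟨hz1, hwv0, hv0, hsq, hid⟩

set_option maxHeartbeats 800000 in
/-- A root subgroup does not fix only a point. -/
theorem not_point (hC : Core P) (hQ : NoQuad P) (ht : ¬ HasTrv P) (hs : ¬ HasShort P) (D : Gens P K)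
    {r₀ : K} (hr₀ : r₀ ≠ 0)
    (hne : LinearMap.ker (nil (D.u r₀)) ≠ LinearMap.ker (nil (D.u 1))) : False := by
  obtain ⟨Fl⟩ := exists_flag hC ht hs D hr₀ hne
  have hsquare := Fl.square hC
  obtain ⟨e, f, v, z, hf, hef, hve, hvf, hN, hzne, hvne, hvadd⟩ := Fl
  have hfe : B f e = 1 := by rw [B_swap, hef]
  have hev : ∀ s, B e (v s) = 0 := fun s => by rw [B_swap, hve]
  have hfv : ∀ s, B f (v s) = 0 := fun s => by rw [B_swap, hvf]
  have hwB : ∀ x y : Vec, B (lin D.w x) (lin D.w y) = B x y := B_lin hC D.w_mem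
  have hww : ∀ x : Vec, lin D.w (lin D.w x) = x := fun x => by rw [← lin_mul, D.w_sq, lin_one]
  have hwf : lin D.w f = e := by rw [hf, hww]
  obtain ⟨hz1, hwv0, hv0, hsq, hid⟩ := hsquare
  dsimp only at hz1 hwv0 hv0 hsq hid
  have hBwe : ∀ x, B (lin D.w x) e = B x f := fun x => by rw [← hwB, hww, ← hf]
  have hM : ∀ s x, nil (D.w * D.u s * D.w) x =
      B x f • (lin D.w (v s) + z s • f) + B x (lin D.w (v s)) • f := by
    intro s x
    have h : nil (D.w * D.u s * D.w) x = lin D.w (nil (D.u s) (lin D.w x)) := by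
      rw [nil_apply, lin_mul, lin_mul, lin_eq_add (D.u s) (lin D.w x), map_add, hww, add_comm x,
        add_assoc, add_self, add_zero]
    rw [h, hN, hBwe, map_add, map_smul, map_smul, map_add, map_smul, ← hf,
      show B (lin D.w x) (v s) = B x (lin D.w (v s)) by rw [← hwB, hww]]
  -- the quadratic form
  obtain ⟨p, κ, hvp, hep, hfp, hval⟩ : ∃ (p : Vec) (κ : F), B (v 1) p = 1 ∧ B e p = 0 ∧ B f p = 0 ∧
      ∀ s, B (v s) p * B (v s) p + B (v s) p * B (v s) (v 1) +
        κ * (B (v s) (v 1) * B (v s) (v 1)) = z s := by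
    by_cases hb : ∃ s₀, B (v s₀) (v 1) ≠ 0
    · obtain ⟨s₀, hb₀⟩ := hb
      refine ⟨(B (v s₀) (v 1))⁻¹ • v s₀, z s₀ / (B (v s₀) (v 1) * B (v s₀) (v 1)), ?_, ?_, ?_,
        fun r => ?_⟩
      · rw [map_smul, B_swap (v s₀) (v 1), smul_eq_mul, inv_mul_cancel₀ hb₀]
      · rw [map_smul, hev, smul_zero]
      · rw [map_smul, hfv, smul_zero]
      · have h := hid s₀ r
        rw [(hsq r).1, (hsq s₀).1] at h
        simp only [map_add, map_smul, LinearMap.add_apply, LinearMap.smul_apply, B_self, smul_eq_mul,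
          B_swap (v s₀) (v 1)] at h
        rw [map_smul, smul_eq_mul]
        field_simp
        linear_combination -h + (B (v r) (v 1) * B (v s₀) (v 1) * B (v r) (v s₀) +
          B (v r) (v 1) * B (v r) (v 1) * z s₀) * (CharTwo.two_eq_zero (R := F))
    · push Not at hb
      obtain ⟨g, hg⟩ : ∃ g, B (v 1) g = 1 := by
        obtain ⟨g, hg⟩ : ∃ g, B (v 1) g ≠ 0 := by
          by_contra! hcon
          exact hvne 1 one_ne_zero (eq_zero_of_B hcon)
        exact ⟨(B (v 1) g)⁻¹ • g, by rw [map_smul, smul_eq_mul, inv_mul_cancel₀ hg]⟩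
      refine ⟨g + B g f • e + B g e • f, 0, ?_, ?_, ?_, fun r => ?_⟩
      · simp [hve, hvf, hg]
      · simp [B_self, hef, B_swap e g, CharTwo.add_self_eq_zero]
      · simp [B_self, hfe, B_swap f g, CharTwo.add_self_eq_zero]
      · obtain ⟨t, rfl⟩ : IsSquare r := by
          have : Finite K := Finite.of_injective D.u fun a b hab => by
            by_contra hne'
            refine D.u_ne (a + b) (fun h => hne' (CharTwo.add_eq_zero.1 h)) ?_
            rw [D.u_add, hab, D.u_sq]
          letI := Fintype.ofFinite K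
          exact FiniteField.isSquare_of_char_two (ringChar.eq K 2) r
        rw [(hsq t).1, (hsq t).2, hb t, zero_smul, zero_add]
        simp [B_self, hve, hvf, hg]
  have hpv : B p (v 1) = 1 := by rw [B_swap, hvp]
  let Q : Vec → F := fun x =>
    B x e * B x f + (B x p * B x p + B x p * B x (v 1) + κ * (B x (v 1) * B x (v 1)))
  have hQdef : ∀ x, Q x = B x e * B x f + (B x p * B x p + B x p * B x (v 1) +
      κ * (B x (v 1) * B x (v 1))) := fun _ => rfl
  have hpolar : ∀ x y, QuadraticMap.polar Q x y = B x y := by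
    intro x y
    conv_rhs => rw [expand hef hvp (hev 1) hep (hfv 1) hfp x]
    simp only [QuadraticMap.polar, hQdef, map_add, map_smul, LinearMap.add_apply,
      LinearMap.smul_apply, smul_eq_mul, B_swap y e, B_swap y f, B_swap y p, B_swap y (v 1)]
    linear_combination (B x p * B y p + κ * (B x (v 1) * B y (v 1))) *
      (CharTwo.two_eq_zero (R := F))
  have hQadd : ∀ x y, Q (x + y) = Q x + Q y + B x y := fun x y => by
    rw [← hpolar x y, QuadraticMap.polar]; ring
  have hu : ∀ s x, Q (lin (D.u s) x) = Q x := by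
    intro s x
    rw [lin_eq_add, hQadd, hN, hQdef (B x e • _ + _)]
    simp only [map_add, map_smul, LinearMap.add_apply, LinearMap.smul_apply, smul_eq_mul, hve, hvf,
      hev, hep, hef, B_self]
    linear_combination (B x e * B x e) * hval s +
      (B x e * B x e * z s + B x e * B x (v s)) * (CharTwo.two_eq_zero (R := F))
  have hl : ∀ x, Q (lin (D.w * D.u 1 * D.w) x) = Q x := by
    intro x
    rw [lin_eq_add, hQadd, hM, hwv0, hz1, one_smul, hQdef (B x f • _ + _)]
    simp only [map_add, map_smul, LinearMap.add_apply, LinearMap.smul_apply, smul_eq_mul, hve, hvf,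
      hfv, hfp, hfe, hvp, B_self]
    linear_combination (B x f * B x f + B x f * B x (v 1)) * (CharTwo.two_eq_zero (R := F))
  have hw : ∀ x, Q (lin D.w x) = Q x := by
    intro x
    rw [← D.w_def, lin_mul, lin_mul, hu, hl, hu]
  refine hQ ⟨Q, ⟨fun a x => ?_, ?_, ?_⟩, ?_⟩
  · rw [hQdef, hQdef]
    simp only [map_smul, LinearMap.smul_apply, smul_eq_mul]
    ring
  · rw [show QuadraticMap.polar Q = fun x y => B x y from funext₂ hpolar]
    exact ⟨fun x y w => by simp, fun a x w => by simp, fun w x y => by simp, fun a w x => by simp⟩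
  · intro x hx
    obtain ⟨y, hy⟩ : ∃ y, B x y ≠ 0 := by
      by_contra! hcon
      exact hx (eq_zero_of_B hcon)
    exact ⟨⟨y, by rw [hpolar, B_swap]; exact hy⟩, ⟨y, by rw [hpolar]; exact hy⟩⟩
  · rintro _ ⟨g, hg, rfl⟩ x
    let R : Subgroup (GL (Fin 2 ⊕ Fin 2) F) :=
      { carrier := {g | ∀ x, Q (lin g x) = Q x}
        one_mem' := fun x => by rw [lin_one]
        mul_mem' := fun {g g'} hg hg' x => by rw [lin_mul, hg, hg']
        inv_mem' := fun {g} hg x => by rw [← hg, ← lin_mul, mul_inv_cancel, lin_one] }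
    have hPR : P ≤ R := D.gen' R hu hw
    show Q ((g : Matrix (Fin 2 ⊕ Fin 2) (Fin 2 ⊕ Fin 2) F) *ᵥ x) = Q x
    rw [← lin_apply]
    exact hPR hg x

end Cfsg.Agent.SpFourEven.PSLTwo
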