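import Cfsg.Agent.Lib.SpFourEven.Defs

/-!
# Involutions that are neither transvections nor short, and the root subgroups of an `SL₂(2ⁿ)`
-/

set_option autoImplicit false
set_option linter.unusedSectionVars false

namespace Cfsg.Agent.SpFourEven.PSLTwo

open Matrix Cfsg.Agent.Aschbacher Cfsg.Agent.Forms.SympStd Cfsg.Agent.Forms.Max
open Module (End finrank)

variable {F : Type*} [Field F] [Fintype F] [CharP F 2]

local notation "GL4" => GL (Fin 2 ⊕ Fin 2) F
local notation "Vec" => (Fin 2 ⊕ Fin 2 → F)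
local notation "B" => sympB 2 F

/-- The action of a matrix on vectors. -/
def lin (g : GL4) : End F Vec := Matrix.toLin' (g : Matrix (Fin 2 ⊕ Fin 2) (Fin 2 ⊕ Fin 2) F)

theorem lin_apply (g : GL4) (x : Vec) :
    lin g x = (g : Matrix (Fin 2 ⊕ Fin 2) (Fin 2 ⊕ Fin 2) F) *ᵥ x :=
  Matrix.toLin'_apply _ _

theorem lin_mul (g h : GL4) (x : Vec) : lin (g * h) x = lin g (lin h x) := by
  rw [lin_apply, lin_apply, lin_apply, mulVec_mul_GL]

theorem lin_one (x : Vec) : lin (1 : GL4) x = x := by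
  rw [lin_apply, Units.val_one, Matrix.one_mulVec]

theorem lin_ext {g h : GL4} (e : ∀ x, lin g x = lin h x) : g = h :=
  gl_ext fun x => by rw [← lin_apply, ← lin_apply, e x]

/-- `g - 1`. -/
def nil (g : GL4) : End F Vec := lin g - 1

theorem nil_apply (g : GL4) (x : Vec) : nil g x = lin g x + x := by
  rw [nil, LinearMap.sub_apply, Module.End.one_apply, sub_eq_add_neg]
  congr 1
  ext i
  exact CharTwo.neg_eq _

theorem add_self (x : Vec) : x + x = 0 := by
  ext i
  exact CharTwo.add_self_eq_zero _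

theorem eq_of_add_eq_zero {x y : Vec} (h : x + y = 0) : x = y := by
  rw [← sub_eq_zero, sub_eq_add_neg, ← h]
  congr 1
  ext i
  exact CharTwo.neg_eq _

theorem lin_eq_add (g : GL4) (x : Vec) : lin g x = x + nil g x := by
  rw [nil_apply, add_comm (lin g x) x, ← add_assoc, add_self, zero_add]

theorem nil_eq_zero_iff {g : GL4} {x : Vec} : nil g x = 0 ↔ lin g x = x := by
  rw [nil_apply]
  exact ⟨eq_of_add_eq_zero, fun h => by rw [h, add_self]⟩

theorem nil_mul (g h : GL4) (x : Vec) : nil (g * h) x = nil g x + nil h x + nil g (nil h x) := by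
  rw [nil_apply (g * h), lin_mul, lin_eq_add h x, map_add, lin_eq_add g x, lin_eq_add g (nil h x),
    show x + nil g x + (nil h x + nil g (nil h x)) + x =
      (x + x) + (nil g x + nil h x + nil g (nil h x)) by abel, add_self, zero_add]

theorem B_swap (x y : Vec) : B y x = B x y := by
  rw [Symp.B_swap, CharTwo.neg_eq]

theorem B_self (x : Vec) : B x x = 0 := Symp.B_self x

theorem eq_zero_of_B {x : Vec} (h : ∀ y, B x y = 0) : x = 0 := Symp.nondeg.1 x h

variable {P : Subgroup (GL (Fin 2 ⊕ Fin 2) F)} (hC : Core P)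
include hC

theorem B_lin {g : GL4} (hg : g ∈ P) (x y : Vec) : B (lin g x) (lin g y) = B x y := by
  rw [lin_apply, lin_apply]
  exact Symp.mem_spGL_iff.1 (hC.le hg) x y

theorem B_nil {g : GL4} (hg : g ∈ P) (h2 : g * g = 1) (x y : Vec) :
    B (nil g x) y = B x (nil g y) := by
  have h : B (lin g x) y = B x (lin g y) := by
    conv_lhs => rw [← lin_one y, ← h2, lin_mul]
    exact B_lin hC hg _ _
  rw [nil_apply, nil_apply, map_add, LinearMap.add_apply, map_add, h]

theorem nil_sq {g : GL4} (h2 : g * g = 1) (x : Vec) : nil g (nil g x) = 0 := by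
  rw [nil_eq_zero_iff, nil_apply, map_add, ← lin_mul, h2, lin_one, add_comm]

variable (ht : ¬ HasTrv P)
include ht

/-- An involution of `P` has rank two. -/
theorem rank_two {g : GL4} (hg : g ∈ P) (h2 : g * g = 1) (h1 : g ≠ 1) :
    finrank F (LinearMap.range (nil g)) = 2 ∧ LinearMap.ker (nil g) = LinearMap.range (nil g) := by
  have hle : LinearMap.range (nil g) ≤ LinearMap.ker (nil g) := by
    rintro _ ⟨x, rfl⟩
    exact nil_sq hC h2 x
  have hsum := LinearMap.finrank_range_add_finrank_ker (nil g)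
  have h4 : finrank F Vec = 4 := by simp
  have hmono := Submodule.finrank_mono hle
  have hne : LinearMap.range (nil g) ≠ ⊥ := fun h => by
    refine h1 (lin_ext fun x => ?_)
    rw [lin_one]
    have : nil g x = 0 := by
      rw [← Submodule.mem_bot F, ← h]; exact LinearMap.mem_range_self _ x
    exact nil_eq_zero_iff.1 this
  have hpos : finrank F (LinearMap.range (nil g)) ≠ 0 := fun h => hne (Submodule.finrank_eq_zero.1 h)
  have hne1 : finrank F (LinearMap.range (nil g)) ≠ 1 := by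
    intro h
    obtain ⟨⟨a, ha⟩, ha0, hall⟩ := finrank_eq_one_iff'.1 h
    obtain ⟨y, hy⟩ : ∃ y, B a y = 1 := by
      obtain ⟨y, hy⟩ : ∃ y, B a y ≠ 0 := by
        by_contra! hcon
        exact ha0 (Subtype.ext (eq_zero_of_B hcon))
      exact ⟨(B a y)⁻¹ • y, by rw [map_smul, smul_eq_mul, inv_mul_cancel₀ hy]⟩
    choose φ hφ using fun x => hall ⟨nil g x, LinearMap.mem_range_self _ x⟩
    have hφ' : ∀ x, nil g x = φ x • a := fun x => (congrArg Subtype.val (hφ x)).symm
    refine ht ⟨a, φ y, fun h0 => ha0 (Subtype.ext h0), fun hc => ha0 (Subtype.ext ?_), ?_⟩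
    · show a = 0
      obtain ⟨x, hx⟩ := ha
      rw [← hx, hφ' x]
      have := B_nil hC hg h2 x y
      rw [hφ', hφ', hc, zero_smul, map_zero, map_smul, LinearMap.smul_apply, hy, smul_eq_mul,
        mul_one] at this
      rw [this, zero_smul]
    · convert hg
      refine gl_ext fun x => ?_
      rw [Symp.spTrv_apply, ← lin_apply, lin_eq_add, hφ']
      congr 2
      have := B_nil hC hg h2 x y
      rw [hφ', hφ', map_smul, map_smul, LinearMap.smul_apply, hy, smul_eq_mul, smul_eq_mul,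
        mul_one] at this
      rw [this]
  refine ⟨by omega, (Submodule.eq_of_le_of_finrank_le hle (by omega)).symm⟩

omit hC ht in
/-- The root subgroups and the swapping element of an `SL₂(K)`. -/
structure Gens (P : Subgroup (GL (Fin 2 ⊕ Fin 2) F)) (K : Type) [Field K] where
  u : K → GL (Fin 2 ⊕ Fin 2) F
  w : GL (Fin 2 ⊕ Fin 2) F
  u_mem : ∀ s, u s ∈ P
  w_mem : w ∈ P
  u_add : ∀ s r, u (s + r) = u s * u r
  u_ne : ∀ s, s ≠ 0 → u s ≠ 1
  u_sq : ∀ s, u s * u s = 1
  w_sq : w * w = 1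
  w_def : u 1 * (w * u 1 * w) * u 1 = w
  braid : ∀ s, s ≠ 0 → u s * (w * u s⁻¹ * w) * u s = (w * u s⁻¹ * w) * u s * (w * u s⁻¹ * w)
  gen : ∀ W : Submodule F (Fin 2 ⊕ Fin 2 → F), (∀ s, ∀ x ∈ W, lin (u s) x ∈ W) →
    (∀ x ∈ W, lin w x ∈ W) →
    ∀ g ∈ P, ∀ x ∈ W, lin g x ∈ W
  gen' : ∀ R : Subgroup (GL (Fin 2 ⊕ Fin 2) F), (∀ s, u s ∈ R) → w ∈ R → P ≤ R

omit hC ht in
theorem Gens.u_comm {K : Type} [Field K] (D : Gens P K) (s r : K) : D.u s * D.u r = D.u r * D.u s := by
  rw [← D.u_add, ← D.u_add, add_comm]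

omit ht in
/-- An invariant subspace is trivial or everything. -/
theorem Gens.eq_bot_or_top {K : Type} [Field K] (D : Gens P K) (W : Submodule F Vec)
    (hu : ∀ s, ∀ x ∈ W, nil (D.u s) x ∈ W) (hw : ∀ x ∈ W, lin D.w x ∈ W) : W = ⊥ ∨ W = ⊤ := by
  refine hC.irred W ?_
  rintro _ ⟨g, hg, rfl⟩
  rintro _ ⟨x, hx, rfl⟩
  rw [Matrix.toLin'_apply, ← lin_apply]
  refine D.gen W (fun s y hy => ?_) hw g hg x hx
  rw [lin_eq_add]
  exact W.add_mem hy (hu s y hy)

end Cfsg.Agent.SpFourEven.PSLTwo
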