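import Cfsg.Agent.Lib.SpFourEven.Cit.PSLTwo.Inv

/-!
# A root subgroup with a fixed plane

The root subgroup is then described by an additive map into the endomorphisms of the plane, which is
compatible with inversion, hence has commuting values; these give endomorphisms commuting with the
whole group, so they are scalars and a plane is invariant.
-/

set_option autoImplicit false
set_option linter.unusedSectionVars false

namespace Cfsg.Agent.SpFourEven.PSLTwo

open Matrix Cfsg.Agent.Aschbacher Cfsg.Agent.Forms.SympStd Cfsg.Agent.Forms.Max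
open Module (End finrank)

variable {F : Type*} [Field F] [Fintype F] [CharP F 2]
variable {P : Subgroup (GL (Fin 2 ⊕ Fin 2) F)} {K : Type} [Field K] [CharP K 2]

local notation "Vec" => (Fin 2 ⊕ Fin 2 → F)

theorem nil_conj {g h : GL (Fin 2 ⊕ Fin 2) F} (h2 : h * h = 1) (x : Vec) :
    nil (h * g * h) x = lin h (nil g (lin h x)) := by
  rw [nil_apply, lin_mul, lin_mul, lin_eq_add g (lin h x), map_add, ← lin_mul h h, h2, lin_one,
    add_comm x, add_assoc, add_self, add_zero]

theorem end_add_self (a : End F Vec) : a + a = 0 := LinearMap.ext fun x => add_self (a x)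

theorem nil_triple {g h : GL (Fin 2 ⊕ Fin 2) F} (hg : ∀ y, nil g (nil g y) = 0) (x : Vec) :
    nil (g * h * g) x =
      nil h x + nil h (nil g x) + nil g (nil h x) + nil g (nil h (nil g x)) := by
  rw [nil_mul, nil_mul, nil_mul g h (nil g x), hg]
  calc _ = (nil g x + nil g x) +
        (nil h x + nil h (nil g x) + nil g (nil h x) + nil g (nil h (nil g x))) := by abel
    _ = _ := by rw [add_self, zero_add]

/-- No root subgroup fixes a plane. -/
theorem not_plane (hC : Core P) (ht : ¬ HasTrv P)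
    (habs : Cfsg.Geo.ActsAbsolutelyIrreducibly (Cfsg.Geo.matrixSet P)) (D : Gens P K)
    (hall : ∀ s : K, s ≠ 0 → LinearMap.ker (nil (D.u s)) = LinearMap.ker (nil (D.u 1))) : False := by
  set L := LinearMap.ker (nil (D.u 1)) with hLdef
  have hLmem : ∀ {x : Vec}, x ∈ L ↔ nil (D.u 1) x = 0 := fun {x} => LinearMap.mem_ker
  have hu0 : D.u 0 = 1 := by
    have h := D.u_add 0 0
    rw [add_zero, D.u_sq] at h
    exact h
  have hN0 : ∀ x : Vec, nil (D.u 0) x = 0 := fun x => by rw [hu0, nil_eq_zero_iff, lin_one]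
  have hkill : ∀ (s : K), ∀ x ∈ L, nil (D.u s) x = 0 := by
    intro s x hx
    by_cases hs : s = 0
    · rw [hs]; exact hN0 x
    · rw [← LinearMap.mem_ker, hall s hs]; exact hx
  have hinto : ∀ (s : K) (x : Vec), nil (D.u s) x ∈ L := by
    intro s x
    by_cases hs : s = 0
    · rw [hs, hN0]; exact L.zero_mem
    · rw [← hall s hs]
      exact LinearMap.mem_ker.2 (nil_sq hC (D.u_sq s) x)
  have hsurj : ∀ (s : K), s ≠ 0 → ∀ x ∈ L, ∃ y, nil (D.u s) y = x := by
    intro s hs x hx
    rw [← hall s hs, (rank_two hC ht (D.u_mem s) (D.u_sq s) (D.u_ne s hs)).2] at hx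
    exact hx
  have hNN : ∀ (s r : K) (x : Vec), nil (D.u s) (nil (D.u r) x) = 0 := fun s r x =>
    hkill s _ (hinto r x)
  have hNadd : ∀ (s r : K) (x : Vec), nil (D.u (s + r)) x = nil (D.u s) x + nil (D.u r) x :=
    fun s r x => by rw [D.u_add, nil_mul, hNN, add_zero]
  have hww : ∀ x : Vec, lin D.w (lin D.w x) = x := fun x => by rw [← lin_mul, D.w_sq, lin_one]
  have hL : finrank F L = 2 := by
    obtain ⟨h1, h2⟩ := rank_two hC ht (D.u_mem 1) (D.u_sq 1) (D.u_ne 1 one_ne_zero)
    rw [hLdef, h2, h1]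
  have h4 : finrank F Vec = 4 := by simp
  -- the two planes are complementary
  have hdisj : ∀ x ∈ L, lin D.w x ∈ L → x = 0 := by
    intro x hx hwx
    rcases D.eq_bot_or_top hC (L ⊓ L.comap (lin D.w))
      (fun s y hy => by rw [hkill s y hy.1]; exact Submodule.zero_mem _)
      (fun y hy => ⟨hy.2, show lin D.w (lin D.w y) ∈ L by rw [hww]; exact hy.1⟩) with h | h
    · have : x ∈ L ⊓ L.comap (lin D.w) := ⟨hx, hwx⟩
      rw [h] at this
      exact this
    · exfalso
      have hle : (⊤ : Submodule F Vec) ≤ L := h ▸ inf_le_left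
      have := Submodule.finrank_mono hle
      rw [finrank_top, h4, hL] at this
      omega
  have hsplit : ∀ x : Vec, ∃ l ∈ L, ∃ l' ∈ L, x = l + lin D.w l' := by
    intro x
    rcases D.eq_bot_or_top hC (L ⊔ L.map (lin D.w))
      (fun s y _ => Submodule.mem_sup_left (hinto s y))
      (fun y hy => by
        obtain ⟨a, ha, b, hb, rfl⟩ := Submodule.mem_sup.1 hy
        obtain ⟨b', hb', rfl⟩ := Submodule.mem_map.1 hb
        rw [map_add, hww, add_comm]
        exact Submodule.add_mem_sup hb' (Submodule.mem_map_of_mem ha)) with h | h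
    · exfalso
      have hle : L ≤ ⊥ := h ▸ le_sup_left
      have := Submodule.finrank_mono hle
      rw [finrank_bot, hL] at this
      omega
    · have hx : x ∈ L ⊔ L.map (lin D.w) := h ▸ Submodule.mem_top
      obtain ⟨a, ha, b, hb, rfl⟩ := Submodule.mem_sup.1 hx
      obtain ⟨b', hb', rfl⟩ := Submodule.mem_map.1 hb
      exact ⟨a, ha, b', hb', rfl⟩
  have hsep : ∀ a ∈ L, ∀ b ∈ L, a = lin D.w b → a = 0 := fun a ha b hb e =>
    hdisj a ha (by rw [e, hww]; exact hb)
  obtain ⟨Φ, hΦ⟩ : ∃ Φ : K → End F Vec,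
      ∀ s x, Φ s x = lin D.w (nil (D.u s) x) + nil (D.u s) (lin D.w x) :=
    ⟨fun s => lin D.w * nil (D.u s) + nil (D.u s) * lin D.w, fun _ _ => rfl⟩
  have hΦw : ∀ s x, Φ s (lin D.w x) = lin D.w (Φ s x) := fun s x => by
    rw [hΦ, hΦ, map_add, hww, hww, add_comm]
  have hΦL : ∀ s, ∀ x ∈ L, Φ s x = nil (D.u s) (lin D.w x) := fun s x hx => by
    rw [hΦ, hkill s x hx, map_zero, zero_add]
  have hΦadd : ∀ s r, Φ (s + r) = Φ s + Φ r := fun s r => LinearMap.ext fun x => by
    rw [LinearMap.add_apply, hΦ, hΦ, hΦ, hNadd, hNadd, map_add]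
    abel
  have hext : ∀ a b : End F Vec, (∀ x, a (lin D.w x) = lin D.w (a x)) →
      (∀ x, b (lin D.w x) = lin D.w (b x)) → (∀ x ∈ L, a x = b x) → a = b := by
    intro a b ha hb h
    refine LinearMap.ext fun x => ?_
    obtain ⟨l, hl, l', hl', rfl⟩ := hsplit x
    rw [map_add, map_add, ha, hb, h l hl, h l' hl']
  -- the braid relation
  have hNMN : ∀ s : K, s ≠ 0 → ∀ x, nil (D.u s) (lin D.w (nil (D.u s⁻¹) (lin D.w (nil (D.u s) x)))) =
      nil (D.u s) x := by
    intro s hs x
    have hM : ∀ y, nil (D.w * D.u s⁻¹ * D.w) y = lin D.w (nil (D.u s⁻¹) (lin D.w y)) :=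
      nil_conj D.w_sq
    have h := congrArg (fun g => nil g x) (D.braid s hs)
    rw [nil_triple (g := D.u s) (h := D.w * D.u s⁻¹ * D.w) (hNN s s) x,
      nil_triple (g := D.w * D.u s⁻¹ * D.w) (h := D.u s)
        (fun y => by rw [hM, hM, hww, hNN, map_zero]) x] at h
    set N := nil (D.u s) with hN
    set M := nil (D.w * D.u s⁻¹ * D.w) with hM'
    have e : N x + N (M (N x)) = M x + M (N (M x)) := by
      refine eq_of_add_eq_zero ?_
      ext j
      have h' := congrFun h j
      simp only [Pi.add_apply, Pi.zero_apply] at h' ⊢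
      linear_combination h' + (N x j + M (N (M x)) j) * (CharTwo.two_eq_zero (R := F))
    have h0 := hsep (N x + N (M (N x))) (L.add_mem (hinto s x) (hinto s _))
      (nil (D.u s⁻¹) (lin D.w x) + nil (D.u s⁻¹) (lin D.w (N (M x))))
      (L.add_mem (hinto _ _) (hinto _ _)) (by rw [e, map_add, hM, hM])
    rw [← hM]
    exact (eq_of_add_eq_zero h0).symm
  have hNM : ∀ s : K, s ≠ 0 → ∀ x ∈ L,
      nil (D.u s) (lin D.w (nil (D.u s⁻¹) (lin D.w x))) = x := by
    intro s hs x hx
    obtain ⟨y, rfl⟩ := hsurj s hs x hx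
    exact hNMN s hs y
  have hinv : ∀ s : K, s ≠ 0 → Φ s * Φ s⁻¹ = 1 := by
    intro s hs
    refine hext _ _ (fun x => by rw [Module.End.mul_apply, Module.End.mul_apply, hΦw, hΦw])
      (fun x => rfl) fun x hx => ?_
    rw [Module.End.mul_apply, hΦL s⁻¹ x hx, hΦL s _ (hinto _ _)]
    exact hNM s hs x hx
  have hone : Φ 1 = 1 := by
    refine hext _ _ (hΦw 1) (fun x => rfl) fun x hx => ?_
    have hMx : lin D.w x = lin D.w (nil (D.u 1) (lin D.w x)) := by
      conv_lhs => rw [lin_eq_add, ← D.w_def, nil_triple (hNN 1 1) x, hkill 1 x hx]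
      simp only [map_zero, add_zero, nil_conj D.w_sq]
      have h := hNM 1 one_ne_zero x hx
      rw [inv_one] at h
      rw [h, add_comm x, add_assoc, add_self, add_zero]
    rw [hΦL 1 x hx]
    have := congrArg (lin D.w) hMx
    rw [hww, hww] at this
    exact this.symm
  have hΦ0 : Φ 0 = 0 := LinearMap.ext fun x => by
    rw [hΦ, hN0, hN0, map_zero, add_zero, LinearMap.zero_apply]
  have hsq : ∀ s : K, Φ (s * s) = Φ s * Φ s := by
    intro s
    by_cases hs : s = 0
    · rw [hs, zero_mul, hΦ0, zero_mul]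
    by_cases hs1 : s + 1 = 0
    · have hs' : s = 1 := CharTwo.add_eq_zero.mp hs1
      rw [hs', one_mul, hone, one_mul]
    have hA : s * s + s ≠ 0 := by
      rw [← mul_add_one]; exact mul_ne_zero hs hs1
    have hsum : s⁻¹ + (s + 1)⁻¹ = (s * s + s)⁻¹ := by
      rw [inv_add_inv hs hs1, ← add_assoc, CharTwo.add_self_eq_zero, zero_add, one_div, mul_add_one]
    have h := hinv _ hA
    rw [← hsum, hΦadd s⁻¹] at h
    have hd : Φ (s + 1) = Φ s + 1 := by rw [hΦadd, hone]
    have h1 : Φ s⁻¹ * Φ s = 1 := by have := hinv s⁻¹ (inv_ne_zero hs); rwa [inv_inv] at this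
    have h2 : Φ (s + 1)⁻¹ * Φ (s + 1) = 1 := by
      have := hinv (s + 1)⁻¹ (inv_ne_zero hs1); rwa [inv_inv] at this
    have h3 : (Φ s⁻¹ + Φ (s + 1)⁻¹) = Φ s⁻¹ * Φ (s + 1)⁻¹ := by
      calc Φ s⁻¹ + Φ (s + 1)⁻¹
          = Φ s⁻¹ * (Φ (s + 1) * Φ (s + 1)⁻¹) + (Φ s⁻¹ * Φ s) * Φ (s + 1)⁻¹ := by
            rw [hinv _ hs1, h1, mul_one, one_mul]
        _ = Φ s⁻¹ * ((Φ (s + 1) + Φ s) * Φ (s + 1)⁻¹) := by rw [add_mul, mul_add, mul_assoc]
        _ = _ := by
          rw [hd, add_comm (Φ s) 1, add_assoc, end_add_self, add_zero, one_mul]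
    rw [h3] at h
    have h5 : Φ (s * s + s) = Φ (s + 1) * Φ s := by
      calc Φ (s * s + s) = Φ (s * s + s) * (Φ s⁻¹ * Φ (s + 1)⁻¹) * (Φ (s + 1) * Φ s) := by
            rw [mul_assoc, mul_assoc (Φ s⁻¹), ← mul_assoc (Φ (s + 1)⁻¹), h2, one_mul, h1, mul_one]
        _ = _ := by rw [h, one_mul]
    rw [hΦadd, hd, add_mul, one_mul] at h5
    exact add_right_cancel h5
  have hcomm : ∀ s r : K, Φ s * Φ r = Φ r * Φ s := by
    intro s r
    have h := hsq (s + r)
    rw [show (s + r) * (s + r) = s * s + r * r by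
      rw [← pow_two, CharTwo.add_sq, pow_two, pow_two], hΦadd, hΦadd, add_mul, mul_add, mul_add,
      hsq, hsq] at h
    have h0 : Φ s * Φ r + Φ r * Φ s = 0 := by
      have e : (Φ s * Φ s + Φ r * Φ r) + (Φ s * Φ s + Φ s * Φ r + (Φ r * Φ s + Φ r * Φ r)) =
          (Φ s * Φ s + Φ s * Φ s) + (Φ r * Φ r + Φ r * Φ r) + (Φ s * Φ r + Φ r * Φ s) := by abel
      rw [← h, end_add_self, end_add_self, end_add_self, zero_add, zero_add] at e
      exact e.symm
    calc Φ s * Φ r = Φ s * Φ r + (Φ r * Φ s + Φ r * Φ s) := by rw [end_add_self, add_zero]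
      _ = Φ r * Φ s := by rw [← add_assoc, h0, zero_add]
  have hNΦ : ∀ s r x, nil (D.u r) (Φ s x) = Φ s (nil (D.u r) x) := by
    intro s r x
    obtain ⟨l, hl, l', hl', rfl⟩ := hsplit x
    have e1 : nil (D.u r) (Φ s l) = Φ s (nil (D.u r) l) := by
      rw [hkill r l hl, map_zero, hΦL s l hl, hNN]
    have e2 : nil (D.u r) (Φ s (lin D.w l')) = Φ s (nil (D.u r) (lin D.w l')) := by
      have h : Φ r (Φ s l') = Φ s (Φ r l') := by
        rw [← Module.End.mul_apply, ← Module.End.mul_apply, hcomm]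
      rw [hΦw, ← hΦL r (Φ s l') (hΦL s l' hl' ▸ hinto _ _), h, hΦL r l' hl']
    rw [map_add, map_add, map_add, map_add, e1, e2]
  have hscal : ∀ s, ∃ c : F, ∀ x, Φ s x = c • x := by
    intro s
    let R : Subgroup (GL (Fin 2 ⊕ Fin 2) F) :=
      { carrier := {g | ∀ x, lin g (Φ s x) = Φ s (lin g x)}
        one_mem' := fun x => by rw [lin_one, lin_one]
        mul_mem' := fun {g g'} hg hg' x => by rw [lin_mul, lin_mul, hg', hg]
        inv_mem' := fun {g} hg x => by
          conv_lhs => rw [← lin_one x, ← mul_inv_cancel g, lin_mul, ← hg, ← lin_mul,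
            inv_mul_cancel, lin_one] }
    have hR : P ≤ R := D.gen' R (fun r x => by rw [lin_eq_add, lin_eq_add, map_add, hNΦ])
      (fun x => (hΦw s x).symm)
    obtain ⟨c, hc⟩ := habs.2 (LinearMap.toMatrix' (Φ s)) (by
      rintro _ ⟨g, hg, rfl⟩
      refine Matrix.toLin'.injective (LinearMap.ext fun x => ?_)
      rw [Matrix.toLin'_mul, Matrix.toLin'_mul, LinearMap.comp_apply, LinearMap.comp_apply,
        Matrix.toLin'_toMatrix']
      exact (hR hg x).symm)
    refine ⟨c, fun x => ?_⟩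
    rw [← Matrix.toLin'_toMatrix' (Φ s), hc, Matrix.toLin'_apply, Matrix.smul_mulVec,
      Matrix.one_mulVec]
  -- a plane is invariant
  obtain ⟨v, hvL, hv0⟩ : ∃ v ∈ L, v ≠ 0 := by
    refine Submodule.exists_mem_ne_zero_of_ne_bot fun h => ?_
    rw [h, finrank_bot] at hL
    omega
  have hu' : ∀ s, ∀ y ∈ Submodule.span F ({v, lin D.w v} : Set Vec),
      nil (D.u s) y ∈ Submodule.span F ({v, lin D.w v} : Set Vec) := by
    intro s y hy
    obtain ⟨a, b, rfl⟩ := Submodule.mem_span_pair.1 hy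
    obtain ⟨c, hc⟩ := hscal s
    have e : nil (D.u s) (lin D.w v) = c • v := by rw [← hΦL s v hvL, hc]
    rw [map_add, map_smul, map_smul, hkill s v hvL, e, smul_zero, zero_add, smul_smul]
    exact Submodule.smul_mem _ _ (Submodule.subset_span (by simp))
  have hw' : ∀ y ∈ Submodule.span F ({v, lin D.w v} : Set Vec),
      lin D.w y ∈ Submodule.span F ({v, lin D.w v} : Set Vec) := by
    intro y hy
    obtain ⟨a, b, rfl⟩ := Submodule.mem_span_pair.1 hy
    rw [map_add, map_smul, map_smul, hww]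
    exact Submodule.mem_span_pair.2 ⟨b, a, add_comm _ _⟩
  rcases D.eq_bot_or_top hC _ hu' hw' with h | h
  · exact hv0 (by
      have : v ∈ Submodule.span F {v, lin D.w v} := Submodule.subset_span (by simp)
      rw [h] at this
      exact this)
  · classical
    have h2 : finrank F (Submodule.span F ({v, lin D.w v} : Set Vec)) ≤ 2 := by
      refine (finrank_span_le_card _).trans ?_
      simp only [Set.toFinset_insert, Set.toFinset_singleton]
      exact Finset.card_le_two
    rw [h, finrank_top, h4] at h2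
    omega

end Cfsg.Agent.SpFourEven.PSLTwo
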